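import Groth.Agent.H3CAlg.TorKoszul
import Groth.Agent.H3CAlg.TorLES
import Groth.Agent.H17.KoszulBC
import Groth.Agent.H29Slice.H1Quasi
import Groth.Agent.H1CAlg.Tor
import Groth.Agent.H13CInt.QuasiReg
import Mathlib.LinearAlgebra.Quotient.Pi

/-!
# `Tor` of powers of Koszul-regular ideals against algebras preserving Koszul-regularity
-/

set_option autoImplicit false
set_option linter.style.haveILetI false

universe u

open CategoryTheory CategoryTheory.Limits MonoidalCategory TensorProduct

namespace Groth.Agent.H16Derived.KoszulTor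

variable {A : Type u} [CommRing A]

/-- Vanishing of higher `Tor` against `N`. -/
def TorAcyclic (N : ModuleCat.{u} A) (M : ModuleCat.{u} A) : Prop :=
  ∀ i : ℕ, IsZero (((Tor (ModuleCat.{u} A) (i + 1)).obj M).obj N)

variable {N : ModuleCat.{u} A}

lemma torAcyclic_of_iso {M M' : ModuleCat.{u} A} (e : M ≅ M') (h : TorAcyclic N M) : TorAcyclic N M' :=
  fun i => (h i).of_iso (((Tor (ModuleCat.{u} A) (i + 1)).mapIso e.symm).app N)

lemma torAcyclic_X₁ {S : ShortComplex (ModuleCat.{u} A)} (hS : S.ShortExact)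
    (h₂ : TorAcyclic N S.X₂) (h₃ : TorAcyclic N S.X₃) : TorAcyclic N S.X₁ := fun i => by
  obtain ⟨-, -, δ, w₁, w₂, -, hb⟩ := H3CAlg.Tor.les₁ N S hS (i + 1)
  exact hb.isZero_X₂ ((h₃ (i + 1)).eq_of_src _ _) ((h₂ i).eq_of_tgt _ _)

lemma torAcyclic_X₂ {S : ShortComplex (ModuleCat.{u} A)} (hS : S.ShortExact)
    (h₁ : TorAcyclic N S.X₁) (h₃ : TorAcyclic N S.X₃) : TorAcyclic N S.X₂ :=
  fun i => H3CAlg.Tor.isZero_obj_X₂ N S hS (i + 1) (h₁ i) (h₃ i)

/-- A short exact sequence of modules from linear maps. -/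
lemma shortExact_of_linear {M₁ M₂ M₃ : Type u} [AddCommGroup M₁] [Module A M₁] [AddCommGroup M₂] [Module A M₂]
    [AddCommGroup M₃] [Module A M₃] (f : M₁ →ₗ[A] M₂) (g : M₂ →ₗ[A] M₃) (hf : Function.Injective f)
    (hfg : Function.Exact f g) (hg : Function.Surjective g) :
    ∃ S : ShortComplex (ModuleCat.{u} A), S.ShortExact ∧
      S.X₁ = ModuleCat.of A M₁ ∧ S.X₂ = ModuleCat.of A M₂ ∧ S.X₃ = ModuleCat.of A M₃ := by
  refine ⟨ShortComplex.mk (ModuleCat.ofHom f) (ModuleCat.ofHom g)
    (ModuleCat.hom_ext (LinearMap.ext fun x => hfg.apply_apply_eq_zero x)), ?_, rfl, rfl, rfl⟩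
  refine { exact := ?_, mono_f := (ModuleCat.mono_iff_injective _).2 hf, epi_g := (ModuleCat.epi_iff_surjective _).2 hg }
  exact (ShortComplex.moduleCat_exact_iff _).2 fun x hx => (hfg x).1 hx

lemma torAcyclic_of_flat (M : Type u) [AddCommGroup M] [Module A M] [Module.Flat A M] :
    TorAcyclic N (ModuleCat.of A M) := fun i => H1CAlg.isZero_Tor_of_flat (ModuleCat.of A M) N i

/-- Finite powers of acyclic modules are acyclic. -/
lemma torAcyclic_fin (M : Type u) [AddCommGroup M] [Module A M] (h : TorAcyclic N (ModuleCat.of A M)) :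
    ∀ n : ℕ, TorAcyclic N (ModuleCat.of A (Fin n → M))
  | 0 => fun i => torAcyclic_of_flat (Fin 0 → M) i
  | n + 1 => by
    let f : M →ₗ[A] (Fin (n + 1) → M) := LinearMap.single A (fun _ : Fin (n + 1) => M) 0
    let g : (Fin (n + 1) → M) →ₗ[A] (Fin n → M) := LinearMap.funLeft A M Fin.succ
    obtain ⟨S, hS, e₁, e₂, e₃⟩ := shortExact_of_linear f g (fun a b hab => by simpa [f] using congrFun hab 0) (fun x => by
        constructor
        · intro hx
          exact ⟨x 0, funext fun j => by
            refine Fin.cases ?_ (fun k => ?_) j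
            · simp [f]
            · simpa [f, g, Fin.succ_ne_zero] using (congrFun hx k).symm⟩
        · rintro ⟨y, rfl⟩
          exact funext fun k => by simp [f, g, LinearMap.funLeft, Fin.succ_ne_zero])
      (fun y => ⟨Fin.cons 0 y, funext fun k => by simp [g, LinearMap.funLeft]⟩)
    have := torAcyclic_X₂ hS (N := N) (by rw [e₁]; exact h) (by rw [e₃]; exact torAcyclic_fin M h n)
    rwa [e₂] at this

/-- The higher `Tor` of a quotient by a Koszul-regular sequence vanish if the sequence stays regular. -/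
theorem torAcyclic_quotient {A' : Type u} [CommRing A'] [Algebra A A'] (l : List A)
    (hl : LCI.IsKoszulRegularSeq A l) (hl' : LCI.IsKoszulRegularSeq A' (l.map (algebraMap A A'))) :
    TorAcyclic (ModuleCat.of A A') (ModuleCat.of A (A ⧸ Ideal.ofList l)) := by
  intro n
  obtain ⟨P, hP⟩ := H3CAlg.TorKoszul.nonempty_kosRes l hl
  obtain ⟨e⟩ := H26Tor.balance P (n + 1) (ModuleCat.of A A')
  refine IsZero.of_iso ?_ e
  rw [← HomologicalComplex.exactAt_iff_isZero_homology]
  show (((tensorRight (ModuleCat.of A A')).mapHomologicalComplex _).obj P.complex).ExactAt (n + 1)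
  rw [hP, HomologicalComplex.exactAt_iff' _ (n + 2) (n + 1) n (by simp) (by simp),
    ShortComplex.moduleCat_exact_iff]
  obtain ⟨b, hb⟩ := H17.KoszulBC.exists_equiv A' l
  let K := Koszul.koszul A l
  let c : ∀ i : ℤ, (K.X i) ⊗[A] A' ≃ₗ[A] A' ⊗[A] (K.X i) := fun i => TensorProduct.comm A _ _
  have hc : ∀ i j : ℤ, ∀ x : (K.X i) ⊗[A] A',
      c j ((K.d i j).hom.rTensor A' x) = (K.d i j).hom.baseChange A' (c i x) := fun i j x => by
    induction x with
    | zero => simp
    | tmul a b => simp [c]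
    | add x y hx hy => simp only [map_add, hx, hy]
  intro x hx
  let h : ℤ := -((n + 2 : ℕ) : ℤ)
  let i : ℤ := -((n + 1 : ℕ) : ℤ)
  let j : ℤ := -(n : ℤ)
  have hx' : (K.d i j).hom.rTensor A' x = 0 := hx
  obtain ⟨w, hw⟩ := H29Slice.exists_preimage_of_isZero_homology _ h i j (by omega) (by omega)
    (hl' i (by omega)) (b i (c i x)) (by
      rw [hb i j (by omega), ← hc i j x, hx', map_zero, map_zero])
  refine ⟨(c h).symm ((b h).symm w), ?_⟩
  show (K.d h i).hom.rTensor A' ((c h).symm ((b h).symm w)) = x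
  apply (c i).injective
  apply (b i).injective
  rw [hc h i, LinearEquiv.apply_symm_apply, ← hb h i (by omega), LinearEquiv.apply_symm_apply, hw]

open MvPolynomial in
/-- The graded pieces of a quasi-regular ideal are free over the quotient. -/
theorem exists_graded_equiv {r : ℕ} {f : Fin r → A} (hq : CAlgX.IsQuasiRegular f) (k : ℕ) :
    ∃ m : ℕ, Nonempty ((↥(Ideal.span (Set.range f) ^ k) ⧸
      Submodule.comap (Ideal.span (Set.range f) ^ k).subtype (Ideal.span (Set.range f) ^ (k + 1))) ≃ₗ[A]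
        (Fin m → A ⧸ Ideal.span (Set.range f))) := by
  classical
  set J := Ideal.span (Set.range f) with hJ
  let ι := ↥((Finset.univ : Finset (Fin r)).finsuppAntidiag k)
  let poly : (ι → A) → MvPolynomial (Fin r) A := fun c => ∑ d : ι, monomial d.1 (c d)
  have hdeg : ∀ d : ι, d.1.degree = k := fun d => by
    have := (Finset.mem_finsuppAntidiag.1 d.2).1
    rw [Finsupp.degree_apply]
    refine Eq.trans ?_ this
    exact Finset.sum_subset (Finset.subset_univ _) fun i _ hi => by simpa using hi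
  have hmem : ∀ d : Fin r →₀ ℕ, d.degree = k →
      d ∈ (Finset.univ : Finset (Fin r)).finsuppAntidiag k := fun d hd => by
    refine Finset.mem_finsuppAntidiag.2 ⟨?_, Finset.subset_univ _⟩
    rw [← hd, Finsupp.degree_apply]
    exact (Finset.sum_subset (Finset.subset_univ _) fun i _ hi => by simpa using hi).symm
  have hhom : ∀ c, (poly c).IsHomogeneous k := fun c =>
    IsHomogeneous.sum _ _ _ fun d _ => isHomogeneous_monomial _ (hdeg d)
  have hcoeff : ∀ c (d : ι), (poly c).coeff d.1 = c d := fun c d => by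
    simp only [poly, coeff_sum, coeff_monomial]
    rw [Finset.sum_eq_single d (fun b _ hb => if_neg fun e => hb (Subtype.ext e)) (by simp)]
    simp
  let φ : (ι → A) →ₗ[A] ↥(J ^ k) ⧸ Submodule.comap (J ^ k).subtype (J ^ (k + 1)) :=
    (Submodule.mkQ _) ∘ₗ
      { toFun := fun c => ⟨eval f (poly c), H06QR.eval_mem f (hhom c)⟩
        map_add' := fun a b => Subtype.ext (by
          have : poly (a + b) = poly a + poly b := by simp [poly, Finset.sum_add_distrib]
          show eval f (poly (a + b)) = eval f (poly a) + eval f (poly b)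
          rw [this, map_add])
        map_smul' := fun a b => Subtype.ext (by
          have : poly (a • b) = C a * poly b := by simp [poly, Finset.mul_sum, C_mul_monomial]
          show eval f (poly (a • b)) = a * eval f (poly b)
          rw [this, map_mul, eval_C]) }
  have hker : LinearMap.ker φ = Submodule.pi Set.univ (fun _ : ι => (J : Submodule A A)) := by
    ext c
    rw [LinearMap.mem_ker, Submodule.mem_pi]
    refine (Submodule.Quotient.mk_eq_zero _).trans ?_
    show eval f (poly c) ∈ J ^ (k + 1) ↔ _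
    constructor
    · intro h d _
      rw [← hcoeff c d]
      exact hq k _ (hhom c) h _
    · intro h
      refine H13CInt.eval_mem_succ (hhom c) fun d => ?_
      simp only [poly, coeff_sum, coeff_monomial]
      refine Ideal.sum_mem _ fun e _ => ?_
      split_ifs
      · exact h e trivial
      · exact zero_mem _
  have hsur : Function.Surjective φ := fun y => by
    obtain ⟨⟨x, hx⟩, rfl⟩ := Submodule.mkQ_surjective _ y
    obtain ⟨P, hP, rfl⟩ := Groth.Agent.H06QR.exists_homogeneous f hx
    refine ⟨fun d => P.coeff d.1, congrArg (Submodule.mkQ _) (Subtype.ext ?_)⟩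
    have : poly (fun d => P.coeff d.1) = P := by
      ext d
      by_cases hd : d.degree = k
      · exact hcoeff _ ⟨d, hmem d hd⟩
      · rw [(hhom _).coeff_eq_zero hd, hP.coeff_eq_zero hd]
    show eval f (poly _) = _
    rw [this]
  exact ⟨Fintype.card ι, ⟨(φ.quotKerEquivOfSurjective hsur).symm ≪≫ₗ Submodule.quotEquivOfEq _ _ hker ≪≫ₗ
    Submodule.quotientPi _ ≪≫ₗ LinearEquiv.funCongrLeft A _ (Fintype.equivFin ι).symm⟩⟩

/-- Acyclicity of the powers and of the graded pieces. -/
theorem torAcyclic_pow {r : ℕ} {f : Fin r → A} (hq : CAlgX.IsQuasiRegular f)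
    (h : TorAcyclic N (ModuleCat.of A (A ⧸ Ideal.span (Set.range f)))) (k : ℕ) :
    TorAcyclic N (ModuleCat.of A ↥(Ideal.span (Set.range f) ^ k)) ∧
    TorAcyclic N (ModuleCat.of A (↥(Ideal.span (Set.range f) ^ k) ⧸
      Submodule.comap (Ideal.span (Set.range f) ^ k).subtype (Ideal.span (Set.range f) ^ (k + 1)))) := by
  set J := Ideal.span (Set.range f) with hJ
  have hgr : ∀ k : ℕ, TorAcyclic N (ModuleCat.of A (↥(J ^ k) ⧸
      Submodule.comap (J ^ k).subtype (J ^ (k + 1)))) := fun k => by
    obtain ⟨m, ⟨e⟩⟩ := exists_graded_equiv hq k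
    exact torAcyclic_of_iso e.toModuleIso.symm (torAcyclic_fin _ h m)
  refine ⟨?_, hgr k⟩
  induction k with
  | zero =>
    haveI : Module.Flat A ↥(J ^ 0) :=
      Module.Flat.of_linearEquiv ((LinearEquiv.ofEq (J ^ 0) ⊤ (by simp)).trans Submodule.topEquiv)
    exact torAcyclic_of_flat _
  | succ k ih =>
    obtain ⟨S, hS, e₁, e₂, e₃⟩ := shortExact_of_linear
      (Submodule.inclusion (Ideal.pow_le_pow_right k.le_succ : J ^ (k + 1) ≤ J ^ k))
      (Submodule.mkQ (Submodule.comap (J ^ k).subtype (J ^ (k + 1))))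
      (Submodule.inclusion_injective _)
      (fun x => (Submodule.Quotient.mk_eq_zero _).trans
        ⟨fun hx => ⟨⟨x.1, hx⟩, Subtype.ext rfl⟩, fun ⟨y, hy⟩ => hy ▸ y.2⟩)
      (Submodule.mkQ_surjective _)
    have := torAcyclic_X₁ hS (N := N) (by rw [e₂]; exact ih) (by rw [e₃]; exact hgr k)
    rwa [e₁] at this

/-- The statement for lists. -/
theorem main {A' : Type u} [CommRing A'] [Algebra A A'] (l : List A)
    (hl : LCI.IsKoszulRegularSeq A l) (hl' : LCI.IsKoszulRegularSeq A' (l.map (algebraMap A A'))) (n : ℕ) :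
    TorAcyclic (ModuleCat.of A A') (ModuleCat.of A ↥(Ideal.span {x | x ∈ l} ^ n)) ∧
    TorAcyclic (ModuleCat.of A A') (ModuleCat.of A (↥(Ideal.span {x | x ∈ l} ^ n) ⧸
      Submodule.comap (Ideal.span {x | x ∈ l} ^ n).subtype (Ideal.span {x | x ∈ l} ^ (n + 1)))) := by
  have hq := H29Slice.isQuasiRegular_of_isH1Regular (H29Slice.isH1Regular_of_isKoszulRegular hl)
  have hr : Ideal.span (Set.range l.get) = Ideal.span {x | x ∈ l} := by
    congr 1
    ext x
    simp [List.mem_iff_get]
  rw [← hr]
  refine torAcyclic_pow hq ?_ n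
  rw [hr]
  exact torAcyclic_quotient l hl hl'

end Groth.Agent.H16Derived.KoszulTor
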